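import Mathlib.LinearAlgebra.Dimension.Finrank
import Mathlib.LinearAlgebra.FiniteDimensional.Lemmas
import Mathlib.Algebra.BigOperators.Intervals
import Mathlib.LinearAlgebra.Projection

/-!
# Chains of linear maps `V 0 → V 1 → ⋯`: composites, ranks, interval decomposition
-/

set_option autoImplicit false
set_option linter.unusedSectionVars false

universe u v

open Module Submodule

namespace Groth.Agent.Lib.MatrixChain

/-! ### Numerics -/

/-- An array on `1 ≤ i ≤ j ≤ r`, extended by zero. -/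
def ext (r : ℕ) (a : ℕ → ℕ → ℕ) (i j : ℕ) : ℕ :=
  if 1 ≤ i ∧ i ≤ j ∧ j ≤ r then a i j else 0

/-- Number of intervals `[p, q]`. -/
def mult (r : ℕ) (a : ℕ → ℕ → ℕ) (p q : ℕ) : ℕ :=
  ext r a p q + ext r a (p - 1) (q + 1) - (ext r a p (q + 1) + ext r a (p - 1) q)

theorem sum_Icc_telescope (F : ℕ → ℤ) (j r : ℕ) (h : j ≤ r + 1) :
    ∑ q ∈ Finset.Icc j r, (F q - F (q + 1)) = F j - F (r + 1) := by
  rw [← Finset.Ico_add_one_right_eq_Icc]
  have := Finset.sum_Ico_eq_sub (fun q => F q - F (q + 1)) h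
  rw [this, Finset.sum_range_sub', Finset.sum_range_sub']
  ring

/-- Validity of an array. -/
def Valid (r : ℕ) (a : ℕ → ℕ → ℕ) : Prop :=
  ∀ p q, 1 ≤ p → p ≤ q → q ≤ r →
    ext r a p (q + 1) + ext r a (p - 1) q ≤ ext r a p q + ext r a (p - 1) (q + 1)

theorem sum_mult {r : ℕ} {a : ℕ → ℕ → ℕ} (ha : Valid r a) {i j : ℕ} (hi : 1 ≤ i) (hij : i ≤ j)
    (hj : j ≤ r) :
    ∑ pq ∈ Finset.Icc 1 i ×ˢ Finset.Icc j r, mult r a pq.1 pq.2 = a i j := by
  rw [Finset.sum_product]
  have key : ∀ p ∈ Finset.Icc 1 i, ∀ q ∈ Finset.Icc j r, ((mult r a p q : ℕ) : ℤ) =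
      ((ext r a p q : ℤ) - ext r a (p - 1) q) - ((ext r a p (q + 1) : ℤ) - ext r a (p - 1) (q + 1)) := by
    intro p hp q hq
    rw [Finset.mem_Icc] at hp hq
    rw [mult, Nat.cast_sub (ha p q hp.1 (by omega) hq.2)]
    push_cast
    ring
  have : ((∑ p ∈ Finset.Icc 1 i, ∑ q ∈ Finset.Icc j r, mult r a p q : ℕ) : ℤ) = a i j := by
    push_cast
    rw [Finset.sum_congr rfl fun p hp => (Finset.sum_congr rfl (key p hp)).trans
      (sum_Icc_telescope (fun q => (ext r a p q : ℤ) - ext r a (p - 1) q) j r (by omega))]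
    have h0 : ∀ p, ext r a p (r + 1) = 0 := fun p => if_neg (by omega)
    simp only [h0, Nat.cast_zero, sub_zero]
    rw [← Finset.Ico_add_one_right_eq_Icc, Finset.sum_Ico_eq_sum_range]
    simp only [Nat.add_sub_cancel, Nat.add_sub_cancel_left, Nat.add_comm 1]
    rw [Finset.sum_range_sub (fun p => (ext r a p j : ℤ))]
    simp only [ext]
    rw [if_pos ⟨hi, hij, hj⟩, if_neg (by omega)]
    simp
  exact_mod_cast this

/-- Index of the basis at position `j`: intervals through `j` with multiplicity. -/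
def idx (r : ℕ) (a : ℕ → ℕ → ℕ) (j : ℕ) : Finset (Σ _ : ℕ × ℕ, ℕ) :=
  (Finset.Icc 1 j ×ˢ Finset.Icc j r).sigma fun pq => Finset.range (mult r a pq.1 pq.2)

theorem mem_idx {r : ℕ} {a : ℕ → ℕ → ℕ} {j : ℕ} {t : Σ _ : ℕ × ℕ, ℕ} :
    t ∈ idx r a j ↔ (1 ≤ t.1.1 ∧ t.1.1 ≤ j) ∧ (j ≤ t.1.2 ∧ t.1.2 ≤ r) ∧
      t.2 < mult r a t.1.1 t.1.2 := by
  simp [idx, and_assoc]

theorem card_idx {r : ℕ} {a : ℕ → ℕ → ℕ} (ha : Valid r a) {j : ℕ} (h1 : 1 ≤ j) (h2 : j ≤ r) :
    (idx r a j).card = a j j := by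
  rw [idx, Finset.card_sigma]
  simp only [Finset.card_range]
  exact sum_mult ha h1 le_rfl h2

theorem card_idx_inter {r : ℕ} {a : ℕ → ℕ → ℕ} (ha : Valid r a) {i j : ℕ} (h1 : 1 ≤ i) (hij : i ≤ j)
    (h2 : j ≤ r) : ((idx r a i).filter fun t => t ∈ idx r a j).card = a i j := by
  have : (idx r a i).filter (fun t => t ∈ idx r a j) =
      (Finset.Icc 1 i ×ˢ Finset.Icc j r).sigma fun pq => Finset.range (mult r a pq.1 pq.2) := by
    ext t
    simp only [Finset.mem_filter, mem_idx, Finset.mem_sigma, Finset.mem_product, Finset.mem_Icc,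
      Finset.mem_range]
    omega
  rw [this, Finset.card_sigma]
  simp only [Finset.card_range]
  exact sum_mult ha h1 hij h2

/-! ### Chains -/

variable {k : Type u} [Field k] {V : ℕ → Type v} [∀ i, AddCommGroup (V i)] [∀ i, Module k (V i)]
  (f : ∀ i, V i →ₗ[k] V (i + 1))

/-- The composite `V i → V j` (zero if `j < i`). -/
def comp (i : ℕ) : ∀ j, V i →ₗ[k] V j
  | 0 => if h : i = 0 then h ▸ LinearMap.id else 0
  | j + 1 => if h : i = j + 1 then h ▸ LinearMap.id else (f j).comp (comp i j)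

theorem comp_self (i : ℕ) : comp f i i = LinearMap.id := by
  cases i <;> simp [comp]

theorem comp_succ {i j : ℕ} (h : i ≤ j) : comp f i (j + 1) = (f j).comp (comp f i j) := by
  rw [comp, dif_neg (by omega)]

theorem comp_trans {i j l : ℕ} (hij : i ≤ j) (hjl : j ≤ l) :
    (comp f j l).comp (comp f i j) = comp f i l := by
  induction l, hjl using Nat.le_induction with
  | base => rw [comp_self, LinearMap.id_comp]
  | succ l hl ih => rw [comp_succ f hl, comp_succ f (hij.trans hl), LinearMap.comp_assoc, ih]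

theorem comp_congr (f' : ∀ i, V i →ₗ[k] V (i + 1)) {i j : ℕ} (hij : i ≤ j)
    (h : ∀ l, i ≤ l → l < j → f' l = f l) : comp f' i j = comp f i j := by
  induction j, hij using Nat.le_induction with
  | base => rw [comp_self, comp_self]
  | succ l hl ih =>
    rw [comp_succ f hl, comp_succ f' hl, h l hl (by omega), ih fun m h1 h2 => h m h1 (by omega)]

theorem comp_eq_zero {i j l : ℕ} (hi : i ≤ l) (hl : l < j) (h : f l = 0) : comp f i j = 0 := by
  rw [← comp_trans f (hi.trans l.le_succ) hl, comp_succ f hi, h]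
  simp

/-- The rank of the composite. -/
noncomputable def rk (i j : ℕ) : ℕ := finrank k (LinearMap.range (comp f i j))

variable [∀ i, FiniteDimensional k (V i)]

theorem rk_self (j : ℕ) : rk f j j = finrank k (V j) := by
  rw [rk, comp_self, LinearMap.range_id, finrank_top]

omit [∀ i, FiniteDimensional k (V i)] in
theorem rk_eq_zero {i j l : ℕ} (hi : i ≤ l) (hl : l < j) (h : f l = 0) : rk f i j = 0 := by
  rw [rk, comp_eq_zero f hi hl h, LinearMap.range_zero, finrank_bot]

theorem rk_succ_le {i j : ℕ} (h : i < j) : rk f i j ≤ rk f (i + 1) j := by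
  rw [rk, rk, ← comp_trans f (Nat.le_succ i) h]
  exact Submodule.finrank_mono (LinearMap.range_comp_le_range _ _)

theorem rk_le_succ {i j : ℕ} (h : i ≤ j) : rk f i (j + 1) ≤ rk f i j := by
  rw [rk, rk, comp_succ f h, LinearMap.range_comp]
  exact Submodule.finrank_map_le _ _

/-- Rank of a composite against the kernel meeting the range. -/
theorem finrank_range_eq {A B C : Type v} [AddCommGroup A] [AddCommGroup B] [AddCommGroup C]
    [Module k A] [Module k B] [Module k C] [FiniteDimensional k B] (g : A →ₗ[k] B) (h : B →ₗ[k] C) :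
    finrank k (LinearMap.range g) = finrank k (LinearMap.range (h.comp g)) +
      finrank k ↥(LinearMap.range g ⊓ LinearMap.ker h) := by
  have := LinearMap.finrank_range_add_finrank_ker (h.domRestrict (LinearMap.range g))
  rw [LinearMap.range_comp, ← this, LinearMap.range_domRestrict]
  congr 1
  rw [LinearMap.ker_domRestrict, inf_comm]
  exact (Submodule.equivSubtypeMap _ _).finrank_eq.trans (by rw [Submodule.map_comap_subtype, inf_comm])

theorem exists_complement {M : Type v} [AddCommGroup M] [Module k M] {S K : Submodule k M} (h : S ≤ K) :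
    ∃ W : Submodule k M, W ⊓ S = ⊥ ∧ S ⊔ W = K ∧ W ≤ K := by
  obtain ⟨T, hT⟩ := Submodule.exists_isCompl S
  refine ⟨T ⊓ K, ?_, ?_, inf_le_right⟩
  · exact le_bot_iff.1 ((inf_le_inf_right _ inf_le_left).trans (disjoint_iff.1 hT.symm.disjoint).le)
  · rw [← sup_inf_assoc_of_le T h, hT.sup_eq_top, top_inf_eq]

/-- The subspaces generating the intervals `[p, q]`. -/
theorem exists_births {p q : ℕ} (hp : 1 ≤ p) (hpq : p ≤ q) :
    ∃ W : Submodule k (V p), W ≤ LinearMap.ker (comp f p (q + 1)) ∧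
      LinearMap.ker (comp f p (q + 1)) ≤
        LinearMap.ker (comp f p q) ⊔ LinearMap.range (comp f (p - 1) p) ⊔ W ∧
      finrank k W + (rk f p (q + 1) + rk f (p - 1) q) = rk f p q + rk f (p - 1) (q + 1) := by
  set U := LinearMap.range (comp f (p - 1) p) with hU
  set K := LinearMap.ker (comp f p q) with hK
  set K' := LinearMap.ker (comp f p (q + 1)) with hK'
  have hKK : K ≤ K' := by
    rw [hK', comp_succ f hpq]
    exact LinearMap.ker_le_ker_comp _ _
  obtain ⟨W, hWS, hsup, hWK⟩ := exists_complement (S := K ⊔ U ⊓ K') (K := K') (sup_le hKK inf_le_right)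
  refine ⟨W, hWK, ?_, ?_⟩
  · calc K' = K ⊔ U ⊓ K' ⊔ W := hsup.symm
      _ ≤ _ := sup_le_sup_right (sup_le_sup_left inf_le_left _) _
  have e1 := Submodule.finrank_sup_add_finrank_inf_eq (K ⊔ U ⊓ K') W
  rw [hsup, inf_comm (K ⊔ U ⊓ K') W, hWS, finrank_bot, add_zero] at e1
  have e2 := Submodule.finrank_sup_add_finrank_inf_eq K (U ⊓ K')
  rw [show K ⊓ (U ⊓ K') = U ⊓ K by
    rw [inf_comm U K', ← inf_assoc, inf_eq_left.2 hKK, inf_comm]] at e2
  have e3 := finrank_range_eq (comp f (p - 1) p) (comp f p q)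
  have e4 := finrank_range_eq (comp f (p - 1) p) (comp f p (q + 1))
  rw [comp_trans f (Nat.sub_le p 1) hpq] at e3
  rw [comp_trans f (Nat.sub_le p 1) (hpq.trans q.le_succ)] at e4
  rw [← hU, ← hK] at e3
  rw [← hU, ← hK'] at e4
  have e5 := LinearMap.finrank_range_add_finrank_ker (comp f p q)
  have e6 := LinearMap.finrank_range_add_finrank_ker (comp f p (q + 1))
  rw [← hK] at e5
  rw [← hK'] at e6
  simp only [rk, Nat.succ_eq_add_one] at *
  omega

end Groth.Agent.Lib.MatrixChain
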