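import Groth.Agent.Lib.MatrixChain.Basic
import Mathlib.LinearAlgebra.Dimension.OrzechProperty

/-!
# Normal form of a truncated chain
-/

set_option autoImplicit false

universe u v

open Module Submodule

namespace Groth.Agent.Lib.MatrixChain

variable {k : Type u} [Field k] {V : ℕ → Type v} [∀ i, AddCommGroup (V i)] [∀ i, Module k (V i)]
  [∀ i, FiniteDimensional k (V i)] (f : ∀ i, V i →ₗ[k] V (i + 1))

variable {r : ℕ} {a : ℕ → ℕ → ℕ}

theorem rk_eq_ext (h0 : f 0 = 0) (hr : ∀ i, r ≤ i → f i = 0)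
    (ha : ∀ i j, 1 ≤ i → i ≤ j → j ≤ r → rk f i j = a i j) {i j : ℕ} (hij : i ≤ j) (hj : 1 ≤ j)
    (hir : i ≤ r) : rk f i j = ext r a i j := by
  unfold ext
  split_ifs with h
  · exact ha i j h.1 h.2.1 h.2.2
  · rcases Nat.eq_zero_or_pos i with rfl | hi
    · exact rk_eq_zero f le_rfl (by omega) h0
    · exact rk_eq_zero f hir (by omega) (hr r le_rfl)

theorem mult_spec (h0 : f 0 = 0) (hr : ∀ i, r ≤ i → f i = 0)
    (ha : ∀ i j, 1 ≤ i → i ≤ j → j ≤ r → rk f i j = a i j) {p q : ℕ} (hp : 1 ≤ p) (hpq : p ≤ q)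
    (hq : q ≤ r) :
    ∃ W : Submodule k (V p), W ≤ LinearMap.ker (comp f p (q + 1)) ∧
      LinearMap.ker (comp f p (q + 1)) ≤
        LinearMap.ker (comp f p q) ⊔ LinearMap.range (comp f (p - 1) p) ⊔ W ∧
      finrank k W = mult r a p q ∧
      ext r a p (q + 1) + ext r a (p - 1) q ≤ ext r a p q + ext r a (p - 1) (q + 1) := by
  obtain ⟨W, h1, h2, h3⟩ := exists_births f hp hpq
  rw [rk_eq_ext f h0 hr ha (by omega) (by omega) (by omega), rk_eq_ext f h0 hr ha (by omega) (by omega) (by omega),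
    rk_eq_ext f h0 hr ha (by omega) (by omega) (by omega), rk_eq_ext f h0 hr ha (by omega) (by omega) (by omega)] at h3
  refine ⟨W, h1, h2, ?_, by omega⟩
  unfold mult
  omega

theorem valid (h0 : f 0 = 0) (hr : ∀ i, r ≤ i → f i = 0)
    (ha : ∀ i j, 1 ≤ i → i ≤ j → j ≤ r → rk f i j = a i j) : Valid r a := fun _ _ hp hpq hq =>
  (mult_spec f h0 hr ha hp hpq hq).choose_spec.2.2.2

theorem span_eq_top_step (hr0 : f r = 0) (v : ∀ j, (Σ _ : ℕ × ℕ, ℕ) → V j) (hv0 : ∀ j t, t ∉ idx r a j → v j t = 0)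
    (hv : ∀ j t, t ∈ idx r a j → f j (v j t) = v (j + 1) t) (b : ∀ p, ℕ → ℕ → V p)
    (hb : ∀ p q, 1 ≤ p → p ≤ q → q ≤ r →
      (∀ n, n < mult r a p q → comp f p (q + 1) (b p q n) = 0) ∧
      LinearMap.ker (comp f p (q + 1)) ≤ LinearMap.ker (comp f p q) ⊔
        LinearMap.range (comp f (p - 1) p) ⊔ span k (b p q '' Set.Iio (mult r a p q)))
    (hvb : ∀ j t, v j t = if t ∈ idx r a j then comp f t.1.1 j (b t.1.1 t.1.2 t.2) else 0)
    {j : ℕ} (hj : 1 ≤ j) (hjr : j ≤ r)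
    (hU : LinearMap.range (comp f (j - 1) j) ≤ span k (Set.range fun t : idx r a j => v j t.1)) :
    ⊤ ≤ span k (Set.range fun t : idx r a j => v j t.1) := by
  have key : ∀ q, j ≤ q → q ≤ r + 1 →
      LinearMap.ker (comp f j q) ≤ span k (Set.range fun t : idx r a j => v j t.1) := by
    intro q hq
    induction q, hq using Nat.le_induction with
    | base => intro _; rw [comp_self, LinearMap.ker_id]; exact bot_le
    | succ q hq ih =>
      intro hqr
      refine (hb j q hj hq (by omega)).2.trans (sup_le (sup_le (ih (by omega)) hU) (span_le.2 ?_))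
      rintro _ ⟨n, hn, rfl⟩
      have ht : (⟨(j, q), n⟩ : Σ _ : ℕ × ℕ, ℕ) ∈ idx r a j :=
        mem_idx.2 ⟨⟨hj, le_rfl⟩, ⟨hq, Nat.le_of_succ_le_succ hqr⟩, hn⟩
      refine subset_span ⟨⟨_, ht⟩, ?_⟩
      show v j _ = _
      rw [hvb, if_pos ht, comp_self]
      rfl
  have := key (r + 1) (by omega) le_rfl
  rwa [comp_eq_zero f hjr (Nat.lt_succ_self r) hr0, LinearMap.ker_zero] at this


/-- Existence of bases in which the chain is a sum of intervals. -/
theorem exists_normal_form (h0 : f 0 = 0) (hr : ∀ i, r ≤ i → f i = 0)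
    (ha : ∀ i j, 1 ≤ i → i ≤ j → j ≤ r → rk f i j = a i j) :
    ∃ v : ∀ j, (Σ _ : ℕ × ℕ, ℕ) → V j,
      (∀ j t, t ∉ idx r a j → v j t = 0) ∧
      (∀ j t, t ∈ idx r a j → f j (v j t) = v (j + 1) t) ∧
      ∀ j, 1 ≤ j → j ≤ r → LinearIndependent k (fun t : idx r a j => v j t.1) ∧
        ⊤ ≤ span k (Set.range fun t : idx r a j => v j t.1) := by
  classical
  have hW : ∀ p q, ∃ b : ℕ → V p, 1 ≤ p → p ≤ q → q ≤ r →
      (∀ n, n < mult r a p q → comp f p (q + 1) (b n) = 0) ∧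
      LinearMap.ker (comp f p (q + 1)) ≤ LinearMap.ker (comp f p q) ⊔
        LinearMap.range (comp f (p - 1) p) ⊔ span k (b '' Set.Iio (mult r a p q)) := by
    intro p q
    by_cases h : 1 ≤ p ∧ p ≤ q ∧ q ≤ r
    · obtain ⟨W, h1, h2, h3, -⟩ := mult_spec f h0 hr ha h.1 h.2.1 h.2.2
      let B := Module.finBasisOfFinrankEq k W h3
      let b : ℕ → V p := fun n => if hn : n < mult r a p q then (B ⟨n, hn⟩ : V p) else 0
      refine ⟨b, fun _ _ _ => ⟨fun n hn => ?_, h2.trans (sup_le_sup_left ?_ _)⟩⟩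
      · simp only [b, dif_pos hn]
        exact h1 (B ⟨n, hn⟩).2
      · intro w hw
        have hmem := B.mem_span (⟨w, hw⟩ : W)
        have := Submodule.mem_map_of_mem (f := W.subtype) hmem
        rw [Submodule.map_span, ← Set.range_comp] at this
        refine Submodule.span_mono ?_ this
        rintro _ ⟨n, rfl⟩
        exact ⟨n, n.2, by simp [b, n.2]⟩
    · exact ⟨0, fun h1 h2 h3 => absurd ⟨h1, h2, h3⟩ h⟩
  choose b hb using hW
  let v : ∀ j, (Σ _ : ℕ × ℕ, ℕ) → V j := fun j t =>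
    if t ∈ idx r a j then comp f t.1.1 j (b t.1.1 t.1.2 t.2) else 0
  have hv0 : ∀ j t, t ∉ idx r a j → v j t = 0 := fun j t ht => if_neg ht
  have hv : ∀ j t, t ∈ idx r a j → f j (v j t) = v (j + 1) t := by
    intro j t ht
    simp only [v, if_pos ht]
    obtain ⟨⟨h1, h2⟩, ⟨h3, h4⟩, h5⟩ := mem_idx.1 ht
    rw [← LinearMap.comp_apply, ← comp_succ f h2]
    rcases h3.lt_or_eq with h | h
    · rw [if_pos (mem_idx.2 ⟨⟨h1, by omega⟩, ⟨h, h4⟩, h5⟩)]
    · rw [if_neg (fun hc => by have := (mem_idx.1 hc).2.1.1; omega)]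
      subst h
      exact (hb _ _ h1 h2 h4).1 _ h5
  have hspan : ∀ j, 1 ≤ j → j ≤ r → ⊤ ≤ span k (Set.range fun t : idx r a j => v j t.1) := by
    intro j hj
    induction j, hj using Nat.le_induction with
    | base => intro h1r; exact span_eq_top_step f (hr r le_rfl) v hv0 hv b (fun p q => hb p q) (fun _ _ => rfl) le_rfl h1r (by simp [comp_succ, comp_self, h0])
    | succ j hj ih =>
      intro hjr
      refine span_eq_top_step f (hr r le_rfl) v hv0 hv b (fun p q => hb p q) (fun _ _ => rfl)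
        (by omega) hjr ?_
      have hrange : LinearMap.range (comp f (j + 1 - 1) (j + 1)) = LinearMap.range (f j) := by
        rw [Nat.add_sub_cancel, comp_succ f le_rfl, comp_self, LinearMap.comp_id]
      rw [hrange, LinearMap.range_eq_map, ← top_le_iff.1 (ih (by omega)), Submodule.map_span,
        Submodule.span_le]
      rintro _ ⟨_, ⟨t, rfl⟩, rfl⟩
      by_cases ht : t.1 ∈ idx r a (j + 1)
      · exact subset_span ⟨⟨t.1, ht⟩, (hv j t.1 t.2).symm⟩
      · simp only [SetLike.mem_coe, hv j t.1 t.2, hv0 _ _ ht, Submodule.zero_mem]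
  refine ⟨v, hv0, hv, fun j h1 h2 => ⟨?_, hspan j h1 h2⟩⟩
  refine linearIndependent_of_top_le_span_of_card_eq_finrank (hspan j h1 h2) ?_
  rw [Fintype.card_coe, card_idx (valid f h0 hr ha) h1 h2, ← ha j j h1 le_rfl h2, rk_self]

end Groth.Agent.Lib.MatrixChain
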